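import Cfsg.Agent.Omega.CR.Bld.Phi

/-!
# THEOREM CRB: the families `T_w N`

* `phi_sq` : `φ_{y → x} φ_{x → y} v = φ_{y → x} b` with `b ∈ N y` (`x`, `y` adjacent, `v ∈ N x`);
* `TF w N` : the family `T_w N`; `TF_comp`, `TF_sq`, `TF_smp`;
* `exists_good` : there is a simple family `N` with `T_i N ≤ N` for all `i`.
-/

set_option autoImplicit false
set_option linter.unusedSectionVars false

namespace Cfsg.Agent.Omega.CR.BldCR

open Cfsg.Agent.Tits.Core Cfsg.Agent.Tits.Core.Bldg Cfsg.Agent.Tits.Exchange Cfsg.Agent.Tits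
open Cfsg.Agent.FixBN Cfsg.Agent.Omega.ML.LieRow Cfsg.Agent.UGT.U2.FOne

variable {I : Type*} {M : CoxeterMatrix I} {W : Type*} [Group W] {cs : CoxeterSystem M W} {C : Type*}
  {Δ : Bldg cs C} {G : Type*} [Group G] [MulAction G C] {p : ℕ} {k V : Type*} [Field k] [AddCommGroup V] [Module k V]
  {S : Sys Δ G p} {ρ : G →* Module.End k V} [F : OppRes.Cox cs] [Fintype C]

local prefix:100 "ℓ" => cs.length

/-- the number of chambers at distance `s_i` is divisible by `p` -/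
theorem card_zero [Fact p.Prime] [CharP k p] (S : Sys Δ G p) (hth : Δ.Thick) {x y : C} {i : I}
    (h : Δ.δ x y = cs.simple i) [DecidablePred fun z => Δ.δ x z = cs.simple i] :
    ((Finset.univ.filter fun z => Δ.δ x z = cs.simple i).card : k) = 0 := by
  classical
  have h1 : MulAction.orbit (S.U x) y = {z | Δ.δ x z = cs.simple i} := by
    ext z
    constructor
    · rintro ⟨⟨u, hu⟩, rfl⟩
      change Δ.δ x (u • y) = _
      rw [← h, ← S.iso u x y, S.fix x u hu]
    · intro hz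
      obtain ⟨u, hu, e⟩ := S.exists_move (x := x) (z := y) (z' := z) (h.trans (Eq.symm hz))
      exact ⟨⟨u, hu⟩, e⟩
  obtain ⟨n, hn⟩ := (S.isP x).card_orbit y
  have h2 : (Finset.univ.filter fun z => Δ.δ x z = cs.simple i).card = p ^ n := by
    rw [← hn, h1, Nat.card_coe_set_eq, ← Set.ncard_coe_finset]
    congr 1
    ext z
    simp
  have h3 : n ≠ 0 := by
    rintro rfl
    rw [pow_zero, Finset.card_eq_one] at h2
    obtain ⟨a, ha⟩ := h2
    obtain ⟨u, hu, hne⟩ := exists_move_adj S hth h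
    have h4 : y ∈ (Finset.univ.filter fun z => Δ.δ x z = cs.simple i) := by simp [h]
    have h5 : u • y ∈ (Finset.univ.filter fun z => Δ.δ x z = cs.simple i) := by
      rw [Finset.mem_filter]
      refine ⟨Finset.mem_univ _, ?_⟩
      rw [← h, ← S.iso u x y, S.fix x u hu]
    rw [ha, Finset.mem_singleton] at h4 h5
    exact hne (h5.trans h4.symm)
  rw [h2, CharP.cast_eq_zero_iff k p]
  exact dvd_pow_self p h3

/-- **the quadratic relation** -/
theorem phi_sq [Fact p.Prime] [CharP k p] (hth : Δ.Thick) {N : C → Submodule k V} (hN : Fml S ρ N) {x y : C} {i : I}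
    (h : Δ.δ x y = cs.simple i) {v : V} (hv : v ∈ N x) :
    ∃ b ∈ N y, phi S ρ x y (phi S ρ y x v) = phi S ρ x y b := by
  classical
  have hvx := hN.le x hv
  have hyx : Δ.δ y x = cs.simple i := Δ.δ_symm_simple h
  let c : C → V := fun z'' => ∑ z', if Δ.δ x z' = cs.simple i then tv S ρ z' x z'' v else 0
  have hc : ∀ z'', c z'' ∈ N z'' := by
    intro z''
    refine Submodule.sum_mem _ fun z' _ => ?_
    split_ifs
    · exact hN.tv_mem hv
    · exact zero_mem _
  refine ⟨c y, hc y, ?_⟩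
  have e1 : phi S ρ x y (phi S ρ y x v) = ∑ z'', c z'' := by
    have h1 : ∀ z', tv S ρ x y z' (phi S ρ y x v) =
        ∑ z'', if Δ.δ x z' = cs.simple i then tv S ρ z' x z'' v else 0 := by
      intro z'
      by_cases hz : Δ.δ x z' = cs.simple i
      · obtain ⟨u, hu, hu1, e⟩ := exists_tv (S := S) (ρ := ρ) (phi_mem (x := y) hvx) (hz.trans h.symm)
        rw [e, rho_phi hvx, hu1, S.fix x u hu, hvx u hu, phi_apply]
        exact Finset.sum_congr rfl fun z'' _ => (if_pos hz).symm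
      · rw [tv_zero (by rw [h]; exact hz)]
        exact (Finset.sum_eq_zero fun z'' _ => if_neg hz).symm
    rw [phi_apply, Finset.sum_congr rfl fun z' _ => h1 z', Finset.sum_comm]
  rw [e1, phi_apply]
  refine Finset.sum_congr rfl fun z'' _ => ?_
  by_cases hz : Δ.δ x z'' = cs.simple i
  · obtain ⟨u, hu, hu1, e⟩ := exists_tv (S := S) (ρ := ρ) (hN.le y (hc y)) (hz.trans h.symm)
    rw [e]
    change (∑ z', _) = ρ u (∑ z', _)
    rw [map_sum]
    refine (Equiv.sum_comp (MulAction.toPerm u : C ≃ C)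
      (fun z' => if Δ.δ x z' = cs.simple i then tv S ρ z' x z'' v else 0)).symm.trans ?_
    refine Finset.sum_congr rfl fun z' _ => ?_
    change (if Δ.δ x (u • z') = cs.simple i then tv S ρ (u • z') x z'' v else 0) = _
    have h2 : Δ.δ x (u • z') = Δ.δ x z' := by
      rw [← S.iso u x z', S.fix x u hu]
    rw [h2]
    split_ifs
    · rw [rho_tv hvx, S.fix x u hu, hu1, hvx u hu]
    · rw [map_zero]
  · rw [tv_zero (by rw [h]; exact hz)]
    change c z'' = 0
    by_cases hzx : z'' = x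
    · subst hzx
      have h3 : ∀ z', (if Δ.δ z'' z' = cs.simple i then tv S ρ z' z'' z'' v else 0) =
          if Δ.δ z'' z' = cs.simple i then v else 0 := by
        intro z'
        rw [tv_self hvx]
      change (∑ z', _) = _
      rw [Finset.sum_congr rfl fun z' _ => h3 z', ← Finset.sum_filter, Finset.sum_const, ← Nat.cast_smul_eq_nsmul k,
        card_zero S hth h, zero_smul]
    · refine Finset.sum_eq_zero fun z' _ => ?_
      split_ifs with hz'
      · rw [tv_zero]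
        · rfl
        · rw [Δ.δ_symm_simple hz']
          intro h4
          apply hz
          exact Δ.δ_eq_of_mem_Pan (x := x) (Or.inl rfl) (Δ.mem_Pan_trans (Or.inr hz') (Or.inr h4)) fun e => hzx e.symm
      · rfl

variable (S ρ) in
/-- the family `T_w N` -/
noncomputable def TF (w : W) (N : C → Submodule k V) (x : C) : Submodule k V :=
  ⨆ y, ⨆ _ : Δ.δ x y = w, (N y).map (phi S ρ x y)

variable {N : C → Submodule k V} (hN : Fml S ρ N)

include hN

theorem TF_eq {w : W} {x y : C} (h : Δ.δ x y = w) : TF S ρ w N x = (N y).map (phi S ρ x y) := by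
  apply le_antisymm
  · refine iSup_le fun y' => iSup_le fun h' => ?_
    rintro _ ⟨v, hv, rfl⟩
    obtain ⟨u, hu, e⟩ := S.exists_move (h.trans h'.symm)
    have h1 : ρ u⁻¹ v ∈ N y := by
      have := hN.eqv u⁻¹ y' v hv
      rwa [← e, inv_smul_smul] at this
    refine ⟨ρ u⁻¹ v, h1, ?_⟩
    rw [← phi_U (hN.le y h1) hu, e, rho_rho_inv]
  · exact le_iSup_of_le y (le_iSup_of_le h le_rfl)

theorem TF_fml (w : W) : Fml S ρ (TF S ρ w N) where
  le x := by
    obtain ⟨y, hy⟩ := Δ.exists_δ x w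
    rw [TF_eq hN hy]
    rintro _ ⟨v, hv, rfl⟩
    exact phi_mem (hN.le y hv)
  eqv g x v hv := by
    obtain ⟨y, hy⟩ := Δ.exists_δ x w
    rw [TF_eq hN hy] at hv
    obtain ⟨v, hv, rfl⟩ := hv
    rw [rho_phi (hN.le y hv), TF_eq hN (y := g • y) (by rw [S.iso, hy])]
    exact ⟨_, hN.eqv g y v hv, rfl⟩

theorem TF_comp {w w' : W} (hl : ℓ (w * w') = ℓ w + ℓ w') (x : C) :
    TF S ρ w (TF S ρ w' N) x = TF S ρ (w * w') N x := by
  obtain ⟨y, hy⟩ := Δ.exists_δ x w
  obtain ⟨z, hz⟩ := Δ.exists_δ y w'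
  have h1 := Δ.δ_mul_of hy hz hl
  rw [TF_eq (TF_fml hN w') hy, TF_eq hN hz, TF_eq hN h1]
  ext v
  constructor
  · rintro ⟨_, ⟨v, hv, rfl⟩, rfl⟩
    exact ⟨v, hv, (phi_comp (by rw [h1, hy, hz]) (by rw [hy, hz]; exact hl) (hN.le z hv)).symm⟩
  · rintro ⟨v, hv, rfl⟩
    exact ⟨_, ⟨v, hv, rfl⟩, phi_comp (by rw [h1, hy, hz]) (by rw [hy, hz]; exact hl) (hN.le z hv)⟩

theorem TF_sq [Fact p.Prime] [CharP k p] (hth : Δ.Thick) (i : I) (x : C) :
    TF S ρ (cs.simple i) (TF S ρ (cs.simple i) N) x ≤ TF S ρ (cs.simple i) N x := by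
  obtain ⟨y, hy⟩ := Δ.exists_δ x (cs.simple i)
  rw [TF_eq (TF_fml hN _) hy, TF_eq hN (Δ.δ_symm_simple hy), TF_eq hN hy]
  rintro _ ⟨_, ⟨v, hv, rfl⟩, rfl⟩
  obtain ⟨b, hb, e⟩ := phi_sq hth hN hy hv
  exact ⟨b, hb, e.symm⟩

omit hN in
/-- simple families -/
def Smp (ρ : G →* Module.End k V) (N : C → Submodule k V) : Prop :=
  ∀ x, ∀ L ≤ N x, (∀ g : G, g • x = x → ∀ v ∈ L, ρ g v ∈ L) → L = ⊥ ∨ L = N x

theorem TF_smp (hs : Smp ρ N) (w : W) : Smp ρ (TF S ρ w N) := by
  intro x L hL hst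
  obtain ⟨y, hy⟩ := Δ.exists_δ x w
  rw [TF_eq hN hy] at hL ⊢
  rcases hs y (N y ⊓ L.comap (phi S ρ x y)) inf_le_left (by
    rintro g hg v ⟨hv, hvL⟩
    refine ⟨?_, ?_⟩
    · have := hN.eqv g y v hv
      rwa [hg] at this
    · change phi S ρ x y (ρ g v) ∈ L
      have h1 : Δ.δ y (g • x) = Δ.δ y x := by rw [← S.iso g y x, hg]
      obtain ⟨u, hu, e⟩ := S.exists_move h1
      have h2 : ρ g v ∈ N y := by
        have := hN.eqv g y v hv
        rwa [hg] at this
      have h3 : ρ (u * g) v = ρ g v := by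
        rw [rho_mul]
        exact hN.le y h2 u hu
      rw [← h3]
      have h4 := rho_phi (x := x) (hN.le y hv) (u * g)
      rw [mul_smul, mul_smul, e, hg, S.fix y u hu] at h4
      rw [← h4]
      exact hst _ (by rw [mul_smul, e]) _ hvL) with h | h
  · left
    rw [eq_bot_iff]
    intro l hl
    obtain ⟨v, hv, rfl⟩ := hL hl
    have h1 : v ∈ N y ⊓ L.comap (phi S ρ x y) := ⟨hv, hl⟩
    rw [h, Submodule.mem_bot] at h1
    rw [h1, map_zero]
    exact zero_mem _
  · right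
    refine le_antisymm hL ?_
    rintro _ ⟨v, hv, rfl⟩
    have h1 : v ∈ N y ⊓ L.comap (phi S ρ x y) := by rw [h]; exact hv
    exact h1.2

omit hN

/-- there is a simple family -/
theorem exists_smp [FiniteDimensional k V] (S : Sys Δ G p) (ρ : G →* Module.End k V) (hth : Δ.Thick) {c : C}
    (hc : fx ρ (S.U c) ≠ ⊥) : ∃ N : C → Submodule k V, Fml S ρ N ∧ Smp ρ N ∧ N c ≠ ⊥ := by
  have hwf : WellFounded ((· < ·) : Submodule k V → Submodule k V → Prop) := wellFounded_lt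
  obtain ⟨L₀, ⟨h1, h2, h3⟩, hmin⟩ := hwf.has_min
    {L : Submodule k V | L ≤ fx ρ (S.U c) ∧ (∀ g : G, g • c = c → ∀ v ∈ L, ρ g v ∈ L) ∧ L ≠ ⊥}
    ⟨_, le_rfl, fun g hg v hv => by
      have := rho_mem_fx S ρ hv g
      rwa [hg] at this, hc⟩
  let N : C → Submodule k V := fun x => ⨆ g : G, ⨆ _ : g • c = x, L₀.map (ρ g)
  have hN : ∀ (g : G) (x : C), g • c = x → N x = L₀.map (ρ g) := by
    intro g x hg
    apply le_antisymm
    · refine iSup_le fun g' => iSup_le fun hg' => ?_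
      rintro _ ⟨v, hv, rfl⟩
      have h4 : (g⁻¹ * g') • c = c := by rw [mul_smul, hg', ← hg, inv_smul_smul]
      refine ⟨ρ (g⁻¹ * g') v, h2 _ h4 v hv, ?_⟩
      rw [← rho_mul]
      congr 2
      group
    · exact le_iSup_of_le g (le_iSup_of_le hg le_rfl)
  refine ⟨N, ⟨fun x => ?_, fun g x v hv => ?_⟩, fun x L hL hst => ?_, ?_⟩
  · obtain ⟨g, rfl⟩ := exists_smul_top S hth c x
    rw [hN g _ rfl]
    rintro _ ⟨v, hv, rfl⟩
    exact rho_mem_fx S ρ (h1 hv) g
  · obtain ⟨h, rfl⟩ := exists_smul_top S hth c x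
    rw [hN h _ rfl] at hv
    obtain ⟨v, hv, rfl⟩ := hv
    rw [hN (g * h) _ (mul_smul g h c), ← rho_mul]
    exact ⟨v, hv, rfl⟩
  · obtain ⟨g, rfl⟩ := exists_smul_top S hth c x
    rw [hN g _ rfl] at hL ⊢
    have key : L.map (ρ g⁻¹) = ⊥ ∨ L.map (ρ g⁻¹) = L₀ := by
      by_cases h0 : L.map (ρ g⁻¹) = ⊥
      · exact Or.inl h0
      right
      have h4 : L.map (ρ g⁻¹) ≤ L₀ := by
        rintro _ ⟨v, hv, rfl⟩
        obtain ⟨w, hw, rfl⟩ := hL hv
        rw [rho_inv_rho]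
        exact hw
      by_contra h5
      refine hmin (L.map (ρ g⁻¹)) ⟨h4.trans h1, ?_, h0⟩ (lt_of_le_of_ne h4 h5)
      rintro h hh _ ⟨v, hv, rfl⟩
      refine ⟨ρ (g * h * g⁻¹) v, hst _ (by rw [mul_smul, inv_smul_smul, mul_smul, hh]) v hv, ?_⟩
      rw [← rho_mul, ← rho_mul]
      congr 2
      group
    have hback : L = (L.map (ρ g⁻¹)).map (ρ g) := by
      ext v
      constructor
      · intro hv
        exact ⟨_, ⟨v, hv, rfl⟩, rho_rho_inv ρ g v⟩
      · rintro ⟨_, ⟨v, hv, rfl⟩, rfl⟩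
        rw [rho_rho_inv]
        exact hv
    rcases key with h4 | h4
    · left
      rw [hback, h4, Submodule.map_bot]
    · right
      rw [hback, h4]
  · rw [hN 1 c (one_smul _ _)]
    intro h4
    apply h3
    rw [eq_bot_iff]
    intro v hv
    have h5 : ρ 1 v ∈ L₀.map (ρ 1) := ⟨v, hv, rfl⟩
    rw [h4, rho_one] at h5
    exact h5

/-- **There is a simple family `N` with `T_i N ≤ N` for all `i`.** -/
theorem exists_good [Fact p.Prime] [CharP k p] [FiniteDimensional k V] (S : Sys Δ G p) (ρ : G →* Module.End k V)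
    (hth : Δ.Thick) {c : C} (hc : fx ρ (S.U c) ≠ ⊥) :
    ∃ N : C → Submodule k V, Fml S ρ N ∧ Smp ρ N ∧ N c ≠ ⊥ ∧
      ∀ i x, TF S ρ (cs.simple i) N x ≤ N x := by
  classical
  obtain ⟨N, hN, hs, h0⟩ := exists_smp S ρ hth hc
  have hT1 : TF S ρ (1 : W) N c ≠ ⊥ := by
    rw [TF_eq hN (Δ.δ_self c)]
    intro h1
    apply h0
    rw [eq_bot_iff]
    intro v hv
    have h2 : phi S ρ c c v = v := by
      rw [phi_apply, Finset.sum_eq_single c, tv_self (hN.le c hv)]
      · intro z _ hz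
        rw [tv_zero]
        · rfl
        · rw [Δ.δ_self]
          intro h3
          exact hz ((Δ.eq_one c z).1 h3).symm
      · intro h; exact absurd (Finset.mem_univ _) h
    have h3 : phi S ρ c c v ∈ (N c).map (phi S ρ c c) := ⟨v, hv, rfl⟩
    rw [h1, h2] at h3
    exact h3
  -- `w` of maximal length with `T_w N ≠ 0`
  obtain ⟨w, hw, hmax⟩ : ∃ w : W, TF S ρ w N c ≠ ⊥ ∧ ∀ w' : W, TF S ρ w' N c ≠ ⊥ → ℓ w' ≤ ℓ w := by
    by_contra hcon
    push Not at hcon
    have h1 : ∀ n : ℕ, ∃ w : W, TF S ρ w N c ≠ ⊥ ∧ n ≤ ℓ w := by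
      intro n
      induction n with
      | zero => exact ⟨1, hT1, Nat.zero_le _⟩
      | succ n ih =>
        obtain ⟨w, hw, hn⟩ := ih
        obtain ⟨w', hw', h2⟩ := hcon w hw
        exact ⟨w', hw', by omega⟩
    obtain ⟨w, -, hw⟩ := h1 (ℓ (w0 cs) + 1)
    have h2 := F.len_mul_w0 w
    omega
  have hne : ∀ w' : W, TF S ρ w' N c = ⊥ → ∀ x, TF S ρ w' N x = ⊥ := by
    intro w' h1 x
    obtain ⟨g, rfl⟩ := exists_smul_top S hth x c
    rw [eq_bot_iff]
    intro v hv
    have h2 := (TF_fml hN w').eqv g x v hv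
    rw [h1, Submodule.mem_bot] at h2
    rw [Submodule.mem_bot, ← rho_inv_rho ρ g v, h2, map_zero]
  refine ⟨TF S ρ w N, TF_fml hN w, TF_smp hN hs w, hw, fun i x => ?_⟩
  rcases cs.length_simple_mul w i with h1 | h1
  · rw [TF_comp hN (by rw [h1, cs.length_simple]; omega), hne _ ?_ x]
    · exact bot_le
    · by_contra h2
      have := hmax _ h2
      omega
  · have h2 : ℓ (cs.simple i * (cs.simple i * w)) = ℓ (cs.simple i) + ℓ (cs.simple i * w) := by
      rw [cs.simple_mul_simple_cancel_left, cs.length_simple]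
      omega
    have h3 : ∀ x, TF S ρ w N x = TF S ρ (cs.simple i) (TF S ρ (cs.simple i * w) N) x := by
      intro x
      rw [TF_comp hN h2, cs.simple_mul_simple_cancel_left]
    have h4 : TF S ρ w N = TF S ρ (cs.simple i) (TF S ρ (cs.simple i * w) N) := funext h3
    rw [h4]
    exact TF_sq (TF_fml hN _) hth i x

end Cfsg.Agent.Omega.CR.BldCR
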