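import Cfsg.Agent.Omega.CR.Bld.Fam

/-!
# THEOREM CRB: `V^{U c}` is a simple module for the stabiliser of `c`

* `PP N` : the panel property;  `pp_of` : it follows from `T_i N ≤ N`;
* `spread` : `∑ N x = ∑_{x opp c'} N x`;
* `dim_le` : `dim (V*)^{U c'} ≤ dim N c`;
* **`eq_fx`** : a nonzero `Stab(c)`-invariant subspace of `V^{U c}` is `V^{U c}`.
-/

set_option autoImplicit false
set_option linter.unusedSectionVars false

namespace Cfsg.Agent.Omega.CR.BldCR

open Cfsg.Agent.Tits.Core Cfsg.Agent.Tits.Core.Bldg Cfsg.Agent.Tits.Exchange Cfsg.Agent.Tits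
open Cfsg.Agent.FixBN Cfsg.Agent.Omega.ML.LieRow Cfsg.Agent.UGT.U2.FOne

variable {I : Type*} {M : CoxeterMatrix I} {W : Type*} [Group W] {cs : CoxeterSystem M W} {C : Type*}
  {Δ : Bldg cs C} {G : Type*} [Group G] [MulAction G C] {p : ℕ} {k V : Type*} [Field k] [AddCommGroup V] [Module k V]
  {S : Sys Δ G p} {ρ : G →* Module.End k V} [F : OppRes.Cox cs] [Fintype C]

local prefix:100 "ℓ" => cs.length

variable (Δ) in
/-- the panel property -/
def PP (N : C → Submodule k V) : Prop :=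
  ∀ x (i : I), N x ≤ ⨆ z, ⨆ _ : Δ.δ x z = cs.simple i, N z

theorem pp_of {N : C → Submodule k V} (hN : Fml S ρ N)
    (hT : ∀ x y (i : I), Δ.δ x y = cs.simple i → ∀ v ∈ N y, phi S ρ x y v ∈ N x) : PP Δ N := by
  classical
  intro x i v hv
  obtain ⟨y, hy⟩ := Δ.exists_δ x (cs.simple i)
  have hyx : Δ.δ y x = cs.simple i := Δ.δ_symm_simple hy
  set P : Submodule k V := ⨆ z, ⨆ _ : Δ.δ x z = cs.simple i, N z with hP
  have hle : ∀ z, Δ.δ x z = cs.simple i → N z ≤ P := fun z hz => le_iSup_of_le z (le_iSup_of_le hz le_rfl)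
  have h1 : phi S ρ y x v ∈ P := hle y hy (hT y x i hyx v hv)
  have h2 : ∀ z ∈ Finset.univ.erase x, tv S ρ y x z v ∈ P := by
    intro z hz
    have hzx : z ≠ x := Finset.ne_of_mem_erase hz
    by_cases h3 : Δ.δ y z = Δ.δ y x
    · apply hle z
      · exact Δ.δ_eq_of_mem_Pan (x := x) (Or.inl rfl) (Δ.mem_Pan_trans (Or.inr hy) (Or.inr (h3.trans hyx))) hzx.symm
      · exact hN.tv_mem hv
    · rw [tv_zero h3]
      exact zero_mem P
  rw [phi_apply, ← Finset.add_sum_erase _ _ (Finset.mem_univ x), tv_self (hN.le x hv)] at h1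
  have h3 := sub_mem h1 (Submodule.sum_mem P h2)
  rwa [add_sub_cancel_right] at h3

/-- the full family has the panel property -/
theorem pp_full (S : Sys Δ G p) (ρ : G →* Module.End k V) : PP Δ (fun x => fx ρ (S.U x)) :=
  pp_of (fml_full S ρ) fun _ _ _ _ _ hv => phi_mem hv

/-- every chamber is at the end of a gallery from a chamber opposite `c'` -/
theorem spread {N : C → Submodule k V} (hp : PP Δ N) (c' : C) (x : C) :
    N x ≤ ⨆ z, ⨆ _ : Δ.δ c' z = w0 cs, N z := by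
  have key : ∀ n : ℕ, ∀ x, ℓ (w0 cs) - ℓ (Δ.δ c' x) = n → N x ≤ ⨆ z, ⨆ _ : Δ.δ c' z = w0 cs, N z := by
    intro n
    induction n with
    | zero =>
      intro x hx
      have h1 := F.len_mul_w0 (Δ.δ c' x)
      have h2 : ℓ (Δ.δ c' x * w0 cs) = 0 := by omega
      have h3 := cs.length_eq_zero_iff.1 h2
      have h4 : Δ.δ c' x = w0 cs := by
        rw [← F.w0_inv]
        exact eq_inv_of_mul_eq_one_left h3
      exact le_iSup_of_le x (le_iSup_of_le h4 le_rfl)
    | succ n ih =>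
      intro x hx
      -- an ascent
      obtain ⟨i, hi⟩ : ∃ i, ℓ (Δ.δ c' x) < ℓ (Δ.δ c' x * cs.simple i) := by
        have h1 : (Δ.δ c' x)⁻¹ * w0 cs ≠ 1 := by
          intro h2
          have h3 : Δ.δ c' x = w0 cs := by
            rw [inv_mul_eq_one] at h2
            exact h2
          rw [h3] at hx
          omega
        obtain ⟨i, hi⟩ := cs.exists_leftDescent_of_ne_one h1
        refine ⟨i, ?_⟩
        have hi' : ℓ (cs.simple i * ((Δ.δ c' x)⁻¹ * w0 cs)) < ℓ ((Δ.δ c' x)⁻¹ * w0 cs) := hi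
        rw [← mul_assoc] at hi'
        have h2 := F.len_mul_w0 (cs.simple i * (Δ.δ c' x)⁻¹)
        have h3 := F.len_mul_w0 (Δ.δ c' x)⁻¹
        have h4 := cs.length_inv (cs.simple i * (Δ.δ c' x)⁻¹)
        rw [mul_inv_rev, inv_inv, cs.inv_simple] at h4
        rw [cs.length_inv] at h3
        rw [h4]
        omega
      refine (hp x i).trans (iSup_le fun z => iSup_le fun hz => ?_)
      apply ih
      rw [Δ.step_lt c' x z i hz hi]
      have h5 := cs.length_mul_simple (Δ.δ c' x) i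
      omega
  exact key _ x rfl

/-- invariance -/
def Ivt (ρ : G →* Module.End k V) (L : Submodule k V) : Prop := ∀ g : G, ∀ v ∈ L, ρ g v ∈ L

/-- irreducible -/
def Irr (ρ : G →* Module.End k V) : Prop := ∀ L : Submodule k V, Ivt ρ L → L = ⊥ ∨ L = ⊤

/-- a functional fixed by `U c'` which vanishes on `N c` is zero, `c` opposite `c'` -/
theorem eq_zero {N : C → Submodule k V} (hN : Fml S ρ N) (hp : PP Δ N) (hirr : Irr ρ) {c c' : C}
    (hc : Δ.δ c' c = w0 cs) (h0 : N c ≠ ⊥) {φ : Module.Dual k V} (hφ : ∀ u ∈ S.U c', ∀ v, φ (ρ u v) = φ v)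
    (h : ∀ v ∈ N c, φ v = 0) : φ = 0 := by
  have h1 : (⨆ x, N x) = ⊤ := by
    rcases hirr (⨆ x, N x) (fun g v hv => by
      have h2 : (⨆ x, N x) ≤ (⨆ x, N x).comap (ρ g) :=
        iSup_le fun x v hv => (le_iSup N (g • x)) (hN.eqv g x v hv)
      exact h2 hv) with h2 | h2
    · exfalso
      apply h0
      rw [eq_bot_iff, ← h2]
      exact le_iSup N c
    · exact h2
  have h2 : (⨆ x, N x) ≤ LinearMap.ker φ := by
    refine iSup_le fun x => (spread hp c' x).trans (iSup_le fun z => iSup_le fun hz => ?_)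
    intro v hv
    obtain ⟨u, hu, rfl⟩ := S.exists_move (hc.trans hz.symm)
    have h3 : ρ u⁻¹ v ∈ N c := by
      have := hN.eqv u⁻¹ _ v hv
      rwa [inv_smul_smul] at this
    rw [LinearMap.mem_ker, ← rho_rho_inv ρ u v, hφ u hu]
    exact h _ h3
  rw [h1, top_le_iff] at h2
  exact LinearMap.ker_eq_top.1 h2

/-! ### the dual representation -/

/-- the dual representation -/
def dualRep (ρ : G →* Module.End k V) : G →* Module.End k (Module.Dual k V) where
  toFun g := (ρ g⁻¹).dualMap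
  map_one' := by
    ext φ v
    change φ (ρ (1 : G)⁻¹ v) = φ v
    rw [inv_one, rho_one]
  map_mul' a b := by
    ext φ v
    change φ (ρ (a * b)⁻¹ v) = φ (ρ b⁻¹ (ρ a⁻¹ v))
    rw [mul_inv_rev, rho_mul]

theorem dualRep_apply (g : G) (φ : Module.Dual k V) (v : V) : dualRep ρ g φ v = φ (ρ g⁻¹ v) := rfl

theorem mem_fx_dual {B : Subgroup G} {φ : Module.Dual k V} :
    φ ∈ fx (dualRep ρ) B ↔ ∀ b ∈ B, ∀ v, φ (ρ b v) = φ v := by
  constructor
  · intro hφ b hb v
    have := congrArg (fun ψ : Module.Dual k V => ψ v) (hφ b⁻¹ (inv_mem hb))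
    rwa [dualRep_apply, inv_inv] at this
  · intro hφ b hb
    ext v
    rw [dualRep_apply]
    exact hφ b⁻¹ (inv_mem hb) v

theorem dual_irr [FiniteDimensional k V] (hirr : Irr ρ) : Irr (dualRep ρ) := by
  intro L hL
  have h1 : Ivt ρ L.dualCoannihilator := by
    intro g v hv
    rw [Submodule.mem_dualCoannihilator] at hv ⊢
    intro φ hφ
    have := hv _ (hL g⁻¹ φ hφ)
    rwa [dualRep_apply, inv_inv] at this
  rcases hirr _ h1 with h2 | h2
  · right
    have h3 := Subspace.dualCoannihilator_dualAnnihilator_eq (W := L)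
    rw [h2, Submodule.dualAnnihilator_bot] at h3
    exact h3.symm
  · left
    rw [eq_bot_iff]
    intro φ hφ
    rw [Submodule.mem_bot]
    ext v
    have : v ∈ L.dualCoannihilator := by rw [h2]; trivial
    exact (Submodule.mem_dualCoannihilator v).1 this φ hφ

/-- `dim (V*)^{U c'} ≤ dim N c` -/
theorem dim_le [FiniteDimensional k V] {N : C → Submodule k V} (hN : Fml S ρ N) (hp : PP Δ N) (hirr : Irr ρ)
    {c c' : C} (hc : Δ.δ c' c = w0 cs) (h0 : N c ≠ ⊥) :
    Module.finrank k (fx (dualRep ρ) (S.U c')) ≤ Module.finrank k (N c) := by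
  let f : fx (dualRep ρ) (S.U c') →ₗ[k] Module.Dual k (N c) :=
    (N c).subtype.dualMap ∘ₗ (fx (dualRep ρ) (S.U c')).subtype
  have hf : Function.Injective f := by
    rw [injective_iff_map_eq_zero]
    rintro ⟨φ, hφ⟩ h
    rw [mem_fx_dual] at hφ
    refine Subtype.ext (eq_zero hN hp hirr hc h0 hφ fun v hv => ?_)
    exact congrArg (fun ψ : Module.Dual k (N c) => ψ ⟨v, hv⟩) h
  have h1 := LinearMap.finrank_le_finrank_of_injective hf
  rwa [Subspace.dual_finrank_eq] at h1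

/-- `dim V^{U c} ≤ dim (V*)^{U c'}` -/
theorem dim_le_dual [FiniteDimensional k V] (S : Sys Δ G p) (hirr : Irr ρ) {c c' : C} (hc : Δ.δ c' c = w0 cs)
    (h0 : fx (dualRep ρ) (S.U c') ≠ ⊥) :
    Module.finrank k (fx ρ (S.U c)) ≤ Module.finrank k (fx (dualRep ρ) (S.U c')) := by
  let f : fx ρ (S.U c) →ₗ[k] Module.Dual k (fx (dualRep ρ) (S.U c')) :=
    (fx (dualRep ρ) (S.U c')).subtype.dualMap ∘ₗ (Module.Dual.eval k V) ∘ₗ (fx ρ (S.U c)).subtype
  have hcc : Δ.δ c c' = w0 cs := by rw [Δ.symm c' c, hc, F.w0_inv]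
  have hf : Function.Injective f := by
    rw [injective_iff_map_eq_zero]
    rintro ⟨v, hv⟩ h
    have h1 : Module.Dual.eval k V v = 0 := by
      refine eq_zero (S := S) (fml_full S (dualRep ρ)) (pp_full S (dualRep ρ)) (dual_irr hirr) hcc h0 ?_ ?_
      · intro u hu φ
        change φ (ρ u⁻¹ v) = φ v
        rw [hv u⁻¹ (inv_mem hu)]
      · intro φ hφ
        exact congrArg (fun ψ : Module.Dual k (fx (dualRep ρ) (S.U c')) => ψ ⟨φ, hφ⟩) h
    exact Subtype.ext ((Module.forall_dual_apply_eq_zero_iff k v).1 fun φ =>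
      congrArg (fun ψ : Module.Dual k (Module.Dual k V) => ψ φ) h1)
  have h1 := LinearMap.finrank_le_finrank_of_injective hf
  exact h1.trans_eq (Subspace.dual_finrank_eq (K := k) (V := fx (dualRep ρ) (S.U c')))

/-- **THEOREM CRB (Curtis-Richen for split (B,N)-pairs).** A nonzero `Stab(c)`-invariant subspace of `V^{U c}` is
`V^{U c}`, if `V` is irreducible. -/
theorem eq_fx [Fact p.Prime] [CharP k p] [FiniteDimensional k V] (S : Sys Δ G p) (hth : Δ.Thick) (hirr : Irr ρ)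
    {c : C} (hd : ∀ x, fx (dualRep ρ) (S.U x) ≠ ⊥) {L : Submodule k V} (hL : L ≤ fx ρ (S.U c))
    (hst : ∀ g : G, g • c = c → ∀ v ∈ L, ρ g v ∈ L) (h0 : L ≠ ⊥) : L = fx ρ (S.U c) := by
  have hc : fx ρ (S.U c) ≠ ⊥ := fun h => h0 (le_bot_iff.1 (h ▸ hL))
  obtain ⟨N, hN, hs, hNc, hT⟩ := exists_good S ρ hth hc
  have hp : PP Δ N := pp_of hN fun x y i hxy v hv => by
    have h1 := hT i x
    rw [TF_eq hN hxy] at h1
    exact h1 ⟨v, hv, rfl⟩
  obtain ⟨c', hc'⟩ := Δ.exists_δ c (w0 cs)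
  have hc'' : Δ.δ c' c = w0 cs := by rw [Δ.symm c c', hc', F.w0_inv]
  have h1 := dim_le hN hp hirr hc'' hNc
  have h2 := dim_le_dual S hirr hc'' (hd c')
  have h3 : N c = fx ρ (S.U c) := Submodule.eq_of_le_of_finrank_le (hN.le c) (h2.trans h1)
  rw [← h3] at hL ⊢
  exact (hs c L hL hst).resolve_left h0

end Cfsg.Agent.Omega.CR.BldCR
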