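import Cfsg.Agent.Omega.ML.LieRow.Bld

/-!
# THEOREM CRB: Curtis-Richen for split (B,N)-pairs, the operators `φ_{y → x}`

`G` acts on the building `Δ`, `S : FixBN.Sys Δ G p`, `ρ` a representation of `G` over a field of characteristic `p`.

* `fx ρ B` : the vectors fixed by `B`;
* `tv S ρ x y z` : `ρ u` for some `u ∈ U x` with `u y = z` (`0` if there is none);
* `phi S ρ x y` : the sum of the `tv S ρ x y z`, it maps `V^{U y}` to `V^{U x}`;
* `phi_comp` : `phi x y ∘ phi y z = phi x z` if the lengths add;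
* `phi_sq` : `phi x y (phi y x v) = phi x y b` with `b` in the same family.
-/

set_option autoImplicit false
set_option linter.unusedSectionVars false

namespace Cfsg.Agent.Omega.CR.BldCR

open Cfsg.Agent.Tits.Core Cfsg.Agent.Tits.Core.Bldg Cfsg.Agent.Tits.Exchange Cfsg.Agent.Tits
open Cfsg.Agent.FixBN Cfsg.Agent.Omega.ML.LieRow

variable {I : Type*} {M : CoxeterMatrix I} {W : Type*} [Group W] {cs : CoxeterSystem M W} {C : Type*}
  {Δ : Bldg cs C} {G : Type*} [Group G] [MulAction G C] {p : ℕ} {k V : Type*} [Field k] [AddCommGroup V] [Module k V]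

local prefix:100 "ℓ" => cs.length

/-- the fixed vectors -/
def fx (ρ : G →* Module.End k V) (B : Subgroup G) : Submodule k V where
  carrier := {v | ∀ b ∈ B, ρ b v = v}
  zero_mem' := fun b _ => map_zero _
  add_mem' := fun {x y} hx hy b hb => by rw [map_add, hx b hb, hy b hb]
  smul_mem' := fun c x hx b hb => by rw [map_smul, hx b hb]

theorem mem_fx {ρ : G →* Module.End k V} {B : Subgroup G} {v : V} : v ∈ fx ρ B ↔ ∀ b ∈ B, ρ b v = v := Iff.rfl

theorem rho_one (ρ : G →* Module.End k V) (v : V) : ρ 1 v = v := by rw [map_one]; rfl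

theorem rho_mul (ρ : G →* Module.End k V) (a b : G) (v : V) : ρ (a * b) v = ρ a (ρ b v) := by rw [map_mul]; rfl

theorem rho_inv_rho (ρ : G →* Module.End k V) (a : G) (v : V) : ρ a⁻¹ (ρ a v) = v := by
  rw [← rho_mul, inv_mul_cancel, rho_one]

theorem rho_rho_inv (ρ : G →* Module.End k V) (a : G) (v : V) : ρ a (ρ a⁻¹ v) = v := by
  rw [← rho_mul, mul_inv_cancel, rho_one]

variable (S : Sys Δ G p) (ρ : G →* Module.End k V)

theorem rho_mem_fx {x : C} {v : V} (hv : v ∈ fx ρ (S.U x)) (g : G) : ρ g v ∈ fx ρ (S.U (g • x)) := by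
  intro u hu
  have h1 : g⁻¹ * u * g ∈ S.U x := by
    rw [← S.conj_mem_U_iff (g := g)]
    have e : g * (g⁻¹ * u * g) * g⁻¹ = u := by group
    rwa [e]
  have h2 := hv _ h1
  calc ρ u (ρ g v) = ρ (g * (g⁻¹ * u * g)) v := by rw [← rho_mul]; congr 2; group
    _ = ρ g v := by rw [rho_mul, h2]

open Classical in
/-- `ρ u` for some `u ∈ U x` with `u y = z` -/
noncomputable def tv (x y z : C) : Module.End k V := if h : ∃ u ∈ S.U x, u • y = z then ρ h.choose else 0

/-- `φ_{y → x}` -/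
noncomputable def phi [Fintype C] (x y : C) : Module.End k V := ∑ z, tv S ρ x y z

variable {S ρ}

theorem tv_apply {x y z : C} {v : V} (hv : v ∈ fx ρ (S.U y)) {u : G} (hu : u ∈ S.U x) (h : u • y = z) :
    tv S ρ x y z v = ρ u v := by
  have h1 : ∃ u ∈ S.U x, u • y = z := ⟨u, hu, h⟩
  unfold tv
  rw [dif_pos h1]
  obtain ⟨h2, h3⟩ := h1.choose_spec
  have h4 : u⁻¹ * h1.choose ∈ S.U y := by
    refine S.mem_U_of_fix (mul_mem (inv_mem hu) h2) ?_
    rw [mul_smul, h3, ← h, inv_smul_smul]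
  have h5 := hv _ h4
  calc ρ h1.choose v = ρ (u * (u⁻¹ * h1.choose)) v := by congr 2; group
    _ = ρ u v := by rw [rho_mul, h5]

theorem tv_zero {x y z : C} (h : Δ.δ x z ≠ Δ.δ x y) : tv S ρ x y z = 0 := by
  unfold tv
  rw [dif_neg]
  rintro ⟨u, hu, rfl⟩
  apply h
  rw [← S.iso u x y, S.fix x u hu]

/-- the value on vectors fixed by `U x` -/
theorem tv_fix {x y z : C} {v : V} (hv : v ∈ fx ρ (S.U x)) (h : ∃ u ∈ S.U x, u • y = z) :
    tv S ρ x y z v = v := by
  unfold tv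
  rw [dif_pos h]
  exact hv _ h.choose_spec.1

variable [F : OppRes.Cox cs]

theorem exists_tv {x y z : C} {v : V} (hv : v ∈ fx ρ (S.U y)) (h : Δ.δ x z = Δ.δ x y) :
    ∃ u ∈ S.U x, u • y = z ∧ tv S ρ x y z v = ρ u v := by
  obtain ⟨u, hu, h1⟩ := S.exists_move h.symm
  exact ⟨u, hu, h1, tv_apply hv hu h1⟩

theorem tv_self {x y : C} {v : V} (hv : v ∈ fx ρ (S.U y)) : tv S ρ x y y v = v := by
  rw [tv_apply hv (one_mem _) (one_smul _ _), rho_one]

/-- equivariance -/
theorem rho_tv {x y z : C} {v : V} (hv : v ∈ fx ρ (S.U y)) (g : G) :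
    ρ g (tv S ρ x y z v) = tv S ρ (g • x) (g • y) (g • z) (ρ g v) := by
  by_cases h : Δ.δ x z = Δ.δ x y
  · obtain ⟨u, hu, h1, h2⟩ := exists_tv hv h
    rw [h2, tv_apply (rho_mem_fx S ρ hv g) (S.conj_mem_U hu g) (by
      rw [mul_smul, inv_smul_smul, mul_smul, h1])]
    rw [← rho_mul, ← rho_mul]
    congr 2
    group
  · rw [tv_zero h, tv_zero (by rwa [S.iso, S.iso])]
    simp

/-- a family of subspaces -/
structure Fml (S : Sys Δ G p) (ρ : G →* Module.End k V) (N : C → Submodule k V) : Prop where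
  le : ∀ x, N x ≤ fx ρ (S.U x)
  eqv : ∀ g x, ∀ v ∈ N x, ρ g v ∈ N (g • x)

omit F in
/-- the full family -/
theorem fml_full (S : Sys Δ G p) (ρ : G →* Module.End k V) : Fml S ρ (fun x => fx ρ (S.U x)) where
  le _ := le_rfl
  eqv g _ _ hv := rho_mem_fx S ρ hv g

theorem Fml.tv_mem {N : C → Submodule k V} (hN : Fml S ρ N) {x y z : C} {v : V} (hv : v ∈ N y) :
    tv S ρ x y z v ∈ N z := by
  by_cases h : Δ.δ x z = Δ.δ x y
  · obtain ⟨u, hu, h1, h2⟩ := exists_tv (hN.le y hv) h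
    rw [h2, ← h1]
    exact hN.eqv u y v hv
  · rw [tv_zero h]
    exact zero_mem _

variable [Fintype C]

omit F in
theorem phi_apply (x y : C) (v : V) : phi S ρ x y v = ∑ z, tv S ρ x y z v := by
  unfold phi
  rw [LinearMap.sum_apply]

/-- equivariance -/
theorem rho_phi {x y : C} {v : V} (hv : v ∈ fx ρ (S.U y)) (g : G) :
    ρ g (phi S ρ x y v) = phi S ρ (g • x) (g • y) (ρ g v) := by
  rw [phi_apply, phi_apply, map_sum]
  exact (Finset.sum_congr rfl fun z _ => rho_tv hv g).trans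
    (Equiv.sum_comp (MulAction.toPerm g : C ≃ C) fun z => tv S ρ (g • x) (g • y) z (ρ g v))

/-- `φ_{gy → x} (g v) = φ_{y → x} v` for `g ∈ U x` -/
theorem phi_U {x y : C} {v : V} (hv : v ∈ fx ρ (S.U y)) {g : G} (hg : g ∈ S.U x) :
    phi S ρ x (g • y) (ρ g v) = phi S ρ x y v := by
  rw [phi_apply, phi_apply]
  refine Finset.sum_congr rfl fun z _ => ?_
  by_cases h : Δ.δ x z = Δ.δ x y
  · obtain ⟨u, hu, h1, h2⟩ := exists_tv hv h
    rw [h2, tv_apply (rho_mem_fx S ρ hv g) (u := u * g⁻¹) (mul_mem hu (inv_mem hg)) (by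
      rw [mul_smul, inv_smul_smul, h1]), rho_mul, rho_inv_rho]
  · have h1 : Δ.δ x z ≠ Δ.δ x (g • y) := by
      intro h1
      apply h
      rw [h1, ← S.iso g x y, S.fix x g hg]
    rw [tv_zero h, tv_zero h1]
    rfl

theorem phi_mem {x y : C} {v : V} (hv : v ∈ fx ρ (S.U y)) : phi S ρ x y v ∈ fx ρ (S.U x) := by
  intro g hg
  rw [rho_phi hv, S.fix x g hg, phi_U hv hg]

/-- **composition** -/
theorem phi_comp {x y z : C} (h1 : Δ.δ x z = Δ.δ x y * Δ.δ y z) (h2 : ℓ (Δ.δ x y * Δ.δ y z) = ℓ (Δ.δ x y) + ℓ (Δ.δ y z))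
    {v : V} (hv : v ∈ fx ρ (S.U z)) : phi S ρ x y (phi S ρ y z v) = phi S ρ x z v := by
  classical
  have key : ∀ y', tv S ρ x y y' (phi S ρ y z v) =
      ∑ z', if Δ.δ x y' = Δ.δ x y ∧ Δ.δ y' z' = Δ.δ y z then tv S ρ x z z' v else 0 := by
    intro y'
    by_cases hy : Δ.δ x y' = Δ.δ x y
    · obtain ⟨u, hu, huy, e⟩ := exists_tv (phi_mem (x := y) hv) hy
      rw [e, rho_phi hv, huy, phi_apply]
      refine Finset.sum_congr rfl fun z' _ => ?_
      by_cases hz : Δ.δ y' z' = Δ.δ y z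
      · rw [if_pos ⟨hy, hz⟩]
        have h3 : Δ.δ x (u • z) = Δ.δ x z := by
          rw [← S.iso u x z, S.fix x u hu]
        have h4 : Δ.δ y' (u • z) = Δ.δ y z := by rw [← huy, S.iso]
        have h5 : Δ.δ x z' = Δ.δ x z := by
          rw [Δ.δ_mul_of hy hz (by exact h2), h1]
        obtain ⟨u₁, hu₁, huz⟩ := S.exists_move (h3.trans h5.symm)
        have h6 : u₁ • y' = y' := by
          refine Δ.between_unique h2 (x := x) (z := z') ?_ ?_ hy hz
          · have := S.iso u₁ x y'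
            rw [S.fix x u₁ hu₁] at this
            rw [this, hy]
          · rw [← huz, S.iso, h4]
        rw [tv_apply (rho_mem_fx S ρ hv u) (S.mem_U_of_fix hu₁ h6) huz,
          tv_apply hv (mul_mem hu₁ hu) (by rw [mul_smul, huz]), rho_mul]
      · rw [if_neg (fun h => hz h.2), tv_zero]
        · rfl
        · rw [← huy, S.iso, huy]
          exact hz
    · rw [tv_zero hy]
      refine (Finset.sum_eq_zero fun z' _ => if_neg fun h => hy h.1).symm
  rw [phi_apply, Finset.sum_congr rfl fun y' _ => key y', Finset.sum_comm, phi_apply]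
  refine Finset.sum_congr rfl fun z' _ => ?_
  by_cases hz : Δ.δ x z' = Δ.δ x z
  · obtain ⟨y', hy1, hy2⟩ := Δ.exists_between (hz.trans h1) h2
    rw [Finset.sum_eq_single y', if_pos ⟨hy1, hy2⟩]
    · intro y'' _ hne
      rw [if_neg]
      rintro ⟨h3, h4⟩
      exact hne (Δ.between_unique h2 h3 h4 hy1 hy2)
    · intro h; exact absurd (Finset.mem_univ _) h
  · rw [tv_zero hz]
    refine Finset.sum_eq_zero fun y' _ => ?_
    split_ifs <;> rfl

end Cfsg.Agent.Omega.CR.BldCR
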